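import Groth.Agent.SymAlg.Univ

/-!
# The grading of a graded symmetric algebra
-/

universe u

open CategoryTheory CategoryTheory.Limits AlgebraicGeometry Opposite TopologicalSpace Polynomial
open scoped HomogeneousIdeal

noncomputable section

namespace Groth.SymAlg

open Groth.QCohMod (BSec bres bstr toB ofB)

variable {S : Scheme.{u}} {E : S.Modules} [E.IsQuasicoherent] {𝒮 : RelProj.QCGrAlg S} {j : E ⟶ 𝒮.toModule}
  (h : RelProj.IsGrSymAlg E 𝒮 j) {U : S.Opens} (hU : IsAffineOpen U)

include h in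
theorem decompose_liftSec (q : SymmetricAlgebra Γ(S, U) Γ(E, U)) (i : ℕ) :
    (DirectSum.decompose (𝒮.deg U hU) (liftSec 𝒮.toQCAlg j U q) i : BSec 𝒮.toQCAlg U) =
      liftSec 𝒮.toQCAlg j U ((symCo Γ(S, U) Γ(E, U) q).coeff i) := by
  have hmem : ∀ k, liftSec 𝒮.toQCAlg j U ((symCo Γ(S, U) Γ(E, U) q).coeff k) ∈ 𝒮.deg U hU k :=
    fun k => liftSec_mem_deg h hU ((isWt_symCo _ _).coeff q k)
  conv_lhs => rw [← (isWt_symCo _ _).eval q, eval_eq_sum, Polynomial.sum, map_sum]
  simp only [one_pow, mul_one]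
  rw [DirectSum.decompose_sum, DFinsupp.finsetSum_apply, AddSubmonoidClass.coe_finsetSum,
    Finset.sum_eq_single i]
  · exact DirectSum.decompose_of_mem_same _ (hmem i)
  · exact fun k _ hk => DirectSum.decompose_of_mem_ne _ (hmem k) hk
  · intro hi
    rw [notMem_support_iff.1 hi, map_zero, DirectSum.decompose_zero]
    rfl

include h in
theorem exists_eq_liftSec {i : ℕ} {x : BSec 𝒮.toQCAlg U} (hx : x ∈ 𝒮.deg U hU i) :
    ∃ q ∈ wt (symCo Γ(S, U) Γ(E, U)) i, liftSec 𝒮.toQCAlg j U q = x := by
  obtain ⟨q, rfl⟩ := (bijective_liftSec h.1 hU).2 x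
  refine ⟨_, (isWt_symCo _ _).coeff q i, ?_⟩
  rw [← decompose_liftSec h hU, DirectSum.decompose_of_mem_same _ hx]

include h in
/-- A prime containing the image of `E` contains the irrelevant ideal. -/
theorem mem_of_range_le {J : Ideal (BSec 𝒮.toQCAlg U)} (hJ : ∀ e : Γ(E, U), toB 𝒮.toQCAlg (j.app U e) ∈ J)
    {i : ℕ} (hi : 0 < i) {x : BSec 𝒮.toQCAlg U} (hx : x ∈ 𝒮.deg U hU i) : x ∈ J := by
  have key : ∀ q k, 0 < k → liftSec 𝒮.toQCAlg j U ((symCo Γ(S, U) Γ(E, U) q).coeff k) ∈ J := by
    intro q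
    induction q using SymmetricAlgebra.induction with
    | algebraMap r =>
      intro k hk
      rw [symCo_algebraMap, coeff_C, if_neg hk.ne', map_zero]
      exact zero_mem _
    | ι e =>
      intro k hk
      rw [symCo_ι, coeff_monomial]
      split_ifs
      · rw [liftSec_ι]; exact hJ e
      · rw [map_zero]; exact zero_mem _
    | mul a b ha hb =>
      intro k hk
      rw [map_mul, coeff_mul, map_sum]
      refine sum_mem fun c hc => ?_
      rw [map_mul]
      rcases Nat.eq_zero_or_pos c.1 with h1 | h1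
      · exact J.mul_mem_left _ (hb c.2 (by have := Finset.mem_antidiagonal.1 hc; omega))
      · exact J.mul_mem_right _ (ha c.1 h1)
    | add a b ha hb =>
      intro k hk
      rw [map_add, coeff_add, map_add]
      exact add_mem (ha k hk) (hb k hk)
  obtain ⟨q, hq, rfl⟩ := exists_eq_liftSec h hU hx
  have := key q i hi
  rwa [(mem_wt _).1 hq, coeff_monomial, if_pos rfl] at this

include h in
/-- Some section of `E` is nonzero at a point of the projective bundle. -/
theorem exists_notMem (y : ProjectiveSpectrum (𝒮.deg U hU)) :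
    ∃ e : Γ(E, U), toB 𝒮.toQCAlg (j.app U e) ∉ y.asHomogeneousIdeal := by
  classical
  by_contra hc
  push Not at hc
  refine y.not_irrelevant_le fun x hx => ?_
  rw [HomogeneousIdeal.mem_irrelevant_iff, GradedRing.proj_apply] at hx
  rw [← DirectSum.sum_support_decompose (𝒮.deg U hU) x]
  refine sum_mem fun k _ => ?_
  rcases Nat.eq_zero_or_pos k with rfl | hk
  · rw [hx]; exact zero_mem _
  · exact mem_of_range_le h hU (J := y.asHomogeneousIdeal.toIdeal) hc hk (SetLike.coe_mem _)

include h in
/-- A graded symmetric algebra is generated in degree one. -/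
theorem isGenDegOne : 𝒮.IsGenDegOne := by
  intro U hU
  refine eq_top_iff.2 fun x _ => ?_
  obtain ⟨q, rfl⟩ := (bijective_liftSec h.1 hU).2 x
  induction q using SymmetricAlgebra.induction with
  | algebraMap r =>
    rw [liftSec_algebraMap]
    exact Subring.subset_closure (Or.inl (𝒮.str_mem U hU r))
  | ι e =>
    rw [liftSec_ι]
    exact Subring.subset_closure (Or.inr (h.2 U hU e))
  | mul a b ha hb => rw [map_mul]; exact mul_mem (ha trivial) (hb trivial)
  | add a b ha hb => rw [map_add]; exact add_mem (ha trivial) (hb trivial)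

end Groth.SymAlg
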