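import Groth.Agent.SymAlg.Sections
import Groth.Prelude.Def_RelProj2

/-!
# The universal property and the grading of the symmetric algebra
-/

universe u

open CategoryTheory CategoryTheory.Limits AlgebraicGeometry Opposite TopologicalSpace Polynomial

noncomputable section

namespace Groth.SymAlg

open Groth.QCohMod (res res_self res_res res_smul resFun res_app BSec bres bstr toB ofB bres_bstr toB_res toB_smul)

variable {S : Scheme.{u}}

theorem modHom_ext {M N : S.Modules} {f g : M ⟶ N}
    (h : ∀ (U : S.Opens), IsAffineOpen U → ∀ x, f.app U x = g.app U x) : f = g := by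
  refine Scheme.Modules.hom_ext _ _ fun W => AddCommGrpCat.ext fun x => ?_
  refine Groth.CohTwo.eq_of_local N _ _ fun z hz => ?_
  obtain ⟨_, ⟨V, hV, rfl⟩, hzV, hVW⟩ := S.isBasis_affineOpens.exists_subset_of_mem_open hz W.2
  exact ⟨V, hVW, hzV, ((res_app f hVW x).trans (h V hV _)).trans (res_app g hVW x).symm⟩

theorem qcHom_ext {A B : RelSpec.QCAlg S} {f g : A ⟶ B}
    (h : ∀ (U : S.Opens), IsAffineOpen U → ∀ x, (f.hom.app (op U)).hom x = (g.hom.app (op U)).hom x) :
    f = g := by
  refine RelSpec.QCAlg.hom_ext ?_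
  refine (Functor.IsCoverDense.restrictHomEquivHom (G := Scheme.AffineZariskiSite.toOpensFunctor S)
    (K := Opens.grothendieckTopology S) (ℱ := A.presheaf)
    (ℱ' := (⟨B.presheaf, B.isSheaf⟩ : TopCat.Sheaf CommRingCat.{u} S.carrier))).symm.injective ?_
  ext U : 2
  exact CommRingCat.hom_ext (RingHom.ext (h U.unop.1 U.unop.2))

theorem hom_app_str {A B : RelSpec.QCAlg S} (ψ : A ⟶ B) (U : S.Opens) (r : Γ(S, U)) :
    (ψ.hom.app (op U)).hom (bstr A U r) = bstr B U r :=
  congr(($(NatTrans.congr_app ψ.comm (op U))).hom r)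

variable {E : S.Modules}

section lift

variable (B : RelSpec.QCAlg S) (φ : E ⟶ B.toModule)

/-- The map out of the symmetric algebra of the sections over `U`. -/
def liftSec (U : S.Opens) : SymmetricAlgebra Γ(S, U) Γ(E, U) →+* BSec B U :=
  liftHom (bstr B U)
    (AddMonoidHom.mk' (fun e => toB B (φ.app U e)) fun a b => map_add (φ.app U).hom a b)
    fun r e => by
      change toB B (φ.app U (r • e)) = _
      rw [Scheme.Modules.Hom.app_smul, toB_smul]
      rfl

@[simp] theorem liftSec_algebraMap (U : S.Opens) (r : Γ(S, U)) :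
    liftSec B φ U (algebraMap Γ(S, U) _ r) = bstr B U r :=
  liftHom_algebraMap _ _ _ r

@[simp] theorem liftSec_ι (U : S.Opens) (e : Γ(E, U)) :
    liftSec B φ U (SymmetricAlgebra.ι Γ(S, U) Γ(E, U) e) = toB B (φ.app U e) :=
  liftHom_ι _ _ _ e

theorem liftSec_symRes {U V : S.Opens} (h : V ≤ U) (x : SymmetricAlgebra Γ(S, U) Γ(E, U)) :
    liftSec B φ V (symRes E h x) = bres B h (liftSec B φ U x) := by
  have : (liftSec B φ V).comp (symRes E h) = (bres B h).comp (liftSec B φ U) := ringHom_ext
    (fun r => by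
      rw [RingHom.comp_apply, RingHom.comp_apply, symRes_algebraMap, liftSec_algebraMap,
        liftSec_algebraMap, bres_bstr])
    fun e => by
      rw [RingHom.comp_apply, RingHom.comp_apply, symRes_ι, liftSec_ι, liftSec_ι, ← toB_res, res_app]
  exact congr($this x)

end lift

variable [E.IsQuasicoherent]

section hom

variable (B : RelSpec.QCAlg S) (φ : E ⟶ B.toModule)

/-- The map on affine opens. -/
def liftRestr : (Scheme.AffineZariskiSite.toOpensFunctor S).op ⋙ (symQC E).presheaf ⟶
    (Scheme.AffineZariskiSite.toOpensFunctor S).op ⋙ B.presheaf where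
  app U := CommRingCat.ofHom ((liftSec B φ U.unop.1).comp (secEquiv E U.unop.1 U.unop.2).toRingHom)
  naturality U V i := CommRingCat.hom_ext (RingHom.ext fun x => by
    have h := Scheme.AffineZariskiSite.toOpens_mono i.unop.le
    change liftSec B φ V.unop.1 (secEquiv E V.unop.1 V.unop.2 (bres (symQC E) h x)) =
      bres B h (liftSec B φ U.unop.1 (secEquiv E U.unop.1 U.unop.2 x))
    rw [secEquiv_bres E U.unop.2 V.unop.2 h, liftSec_symRes])

/-- The map of presheaves of rings. -/
def liftPre : (symQC E).presheaf ⟶ B.presheaf :=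
  Functor.IsCoverDense.restrictHomEquivHom (G := Scheme.AffineZariskiSite.toOpensFunctor S)
    (K := Opens.grothendieckTopology S) (ℱ := (symQC E).presheaf)
    (ℱ' := (⟨B.presheaf, B.isSheaf⟩ : TopCat.Sheaf CommRingCat.{u} S.carrier)) (liftRestr B φ)

theorem liftPre_app {U : S.Opens} (hU : IsAffineOpen U) (x : BSec (symQC E) U) :
    ((liftPre B φ).app (op U)).hom x = liftSec B φ U (secEquiv E U hU x) := by
  have h : (Scheme.AffineZariskiSite.toOpensFunctor S).op.whiskerLeft (liftPre B φ) = liftRestr B φ :=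
    (Functor.IsCoverDense.restrictHomEquivHom (G := Scheme.AffineZariskiSite.toOpensFunctor S)
      (K := Opens.grothendieckTopology S) (ℱ := (symQC E).presheaf)
      (ℱ' := (⟨B.presheaf, B.isSheaf⟩ : TopCat.Sheaf CommRingCat.{u} S.carrier))).symm_apply_apply _
  exact congr(($(NatTrans.congr_app h (op ⟨U, hU⟩))).hom x)

/-- The homomorphism of algebras extending `φ`. -/
def liftAlg : symQC E ⟶ B where
  hom := liftPre B φ
  comm := by
    refine (Functor.IsCoverDense.restrictHomEquivHom (G := Scheme.AffineZariskiSite.toOpensFunctor S)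
      (K := Opens.grothendieckTopology S) (ℱ := S.presheaf)
      (ℱ' := (⟨B.presheaf, B.isSheaf⟩ : TopCat.Sheaf CommRingCat.{u} S.carrier))).symm.injective ?_
    ext U : 2
    refine CommRingCat.hom_ext (RingHom.ext fun r => ?_)
    change ((liftPre B φ).app (op U.unop.1)).hom (bstr (symQC E) U.unop.1 r) = bstr B U.unop.1 r
    rw [liftPre_app B φ U.unop.2, secEquiv_str, liftSec_algebraMap]

end hom

variable (E) in
/-- The universal property of the symmetric algebra. -/
theorem isSymAlg_symQC : RelSpec.IsSymAlg E (symQC E) (jSym E) := by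
  intro B φ
  refine ⟨liftAlg B φ, modHom_ext fun U hU e => ?_, fun ψ hψ => qcHom_ext fun U hU x => ?_⟩
  · change ((liftPre B φ).app (op U)).hom (toB (symQC E) ((jSym E).app U e)) = _
    rw [liftPre_app B φ hU, secEquiv_jSym, liftSec_ι]
  · change _ = ((liftPre B φ).app (op U)).hom x
    rw [liftPre_app B φ hU]
    obtain ⟨x, rfl⟩ := (secEquiv E U hU).symm.surjective x
    rw [RingEquiv.apply_symm_apply]
    have : (ψ.hom.app (op U)).hom.comp (secEquiv E U hU).symm.toRingHom = liftSec B φ U := ringHom_ext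
      (fun r => by
        rw [RingHom.comp_apply, liftSec_algebraMap, ← secEquiv_str E hU r]
        exact (congrArg _ (RingEquiv.symm_apply_apply _ _)).trans (hom_app_str ψ U r))
      fun e => by
        rw [RingHom.comp_apply, liftSec_ι, ← secEquiv_jSym E hU e]
        exact (congrArg _ (RingEquiv.symm_apply_apply _ _)).trans (congr(($hψ).app U e))
    exact congr($this x)

/-! ### The grading -/

variable (E) in
/-- The coaction on the sections over an affine open. -/
def secCo (U : S.Opens) (hU : IsAffineOpen U) : BSec (symQC E) U →+* (BSec (symQC E) U)[X] :=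
  coComap (symCo Γ(S, U) Γ(E, U)) (secEquiv E U hU)

theorem mem_wt_secCo {U : S.Opens} {hU : IsAffineOpen U} {i : ℕ} {x : BSec (symQC E) U} :
    x ∈ wt (secCo E U hU) i ↔ secEquiv E U hU x ∈ wt (symCo Γ(S, U) Γ(E, U)) i :=
  mem_wt_coComap _ _

theorem isWt_secCo (U : S.Opens) (hU : IsAffineOpen U) : IsWt (secCo E U hU) :=
  (isWt_symCo _ _).coComap _ _

variable (E) in
/-- The graded symmetric algebra. -/
def symGr : RelProj.QCGrAlg S where
  toQCAlg := symQC E
  deg U hU i := wt (secCo E U hU) i
  graded U hU := (isWt_secCo U hU).gradedRing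
  map_mem {U V} hU hV h d x hx := by
    rw [mem_wt_secCo] at hx ⊢
    change secEquiv E V hV (bres (symQC E) h x) ∈ _
    rw [secEquiv_bres E hU hV h]
    exact symMap_mem_wt _ _ _ hx
  str_mem U hU r := by
    rw [mem_wt_secCo]
    change secEquiv E U hU (bstr (symQC E) U r) ∈ _
    rw [secEquiv_str]
    exact algebraMap_mem_wt r

variable (E) in
theorem isGrSymAlg_symGr : RelProj.IsGrSymAlg E (symGr E) (jSym E) :=
  ⟨isSymAlg_symQC E, fun U hU e => by
    refine mem_wt_secCo.2 ?_
    change secEquiv E U hU (toB (symQC E) ((jSym E).app U e)) ∈ _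
    rw [secEquiv_jSym]
    exact ι_mem_wt e⟩

/-! ### Structure of an arbitrary symmetric algebra -/

section structure'

variable {A : RelSpec.QCAlg S} {j : E ⟶ A.toModule}

theorem bijective_liftSec (h : RelSpec.IsSymAlg E A j) {U : S.Opens} (hU : IsAffineOpen U) :
    Function.Bijective (liftSec A j U) := by
  obtain ⟨χ, hχ, -⟩ := h (symQC E) (jSym E)
  have h1 : (χ.hom.app (op U)).hom.comp (liftSec A j U) = (secEquiv E U hU).symm.toRingHom := ringHom_ext
    (fun r => by
      rw [RingHom.comp_apply, liftSec_algebraMap, hom_app_str]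
      exact ((secEquiv E U hU).eq_symm_apply).2 (secEquiv_str E hU r))
    fun e => by
      rw [RingHom.comp_apply, liftSec_ι]
      exact (congr(($hχ).app U e)).trans (((secEquiv E U hU).eq_symm_apply).2 (secEquiv_jSym E hU e))
  have h2 : χ ≫ liftAlg A j = 𝟙 A := by
    obtain ⟨_, _, huniq⟩ := h A j
    refine (huniq _ ?_).trans (huniq _ ?_).symm
    · refine modHom_ext fun U hU e => ?_
      change ((liftPre A j).app (op U)).hom ((χ.hom.app (op U)).hom (toB A (j.app U e))) = _
      have e1 : (χ.hom.app (op U)).hom (toB A (j.app U e)) = toB (symQC E) ((jSym E).app U e) :=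
        congr(($hχ).app U e)
      rw [e1, liftPre_app A j hU, secEquiv_jSym, liftSec_ι]
    · exact modHom_ext fun U hU e => rfl
  refine ⟨fun x y hxy => (secEquiv E U hU).symm.injective ?_, fun a => ?_⟩
  · exact (congr($h1 x)).symm.trans ((congrArg _ hxy).trans (congr($h1 y)))
  · refine ⟨secEquiv E U hU ((χ.hom.app (op U)).hom a), ?_⟩
    rw [← liftPre_app A j hU]
    exact congr((($h2).hom.app (op U)).hom a)

end structure'

theorem liftSec_mem_deg {𝒮 : RelProj.QCGrAlg S} {j : E ⟶ 𝒮.toModule} (h : RelProj.IsGrSymAlg E 𝒮 j)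
    {U : S.Opens} (hU : IsAffineOpen U) {i : ℕ} {x : SymmetricAlgebra Γ(S, U) Γ(E, U)}
    (hx : x ∈ wt (symCo Γ(S, U) Γ(E, U)) i) : liftSec 𝒮.toQCAlg j U x ∈ 𝒮.deg U hU i := by
  have key : ∀ x k, liftSec 𝒮.toQCAlg j U ((symCo Γ(S, U) Γ(E, U) x).coeff k) ∈ 𝒮.deg U hU k := by
    intro x
    induction x using SymmetricAlgebra.induction with
    | algebraMap r =>
      intro k
      rw [symCo_algebraMap, coeff_C]
      split_ifs with hk
      · rw [liftSec_algebraMap, hk]; exact 𝒮.str_mem U hU r
      · rw [map_zero]; exact zero_mem _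
    | ι e =>
      intro k
      rw [symCo_ι, coeff_monomial]
      split_ifs with hk
      · rw [liftSec_ι, ← hk]; exact h.2 U hU e
      · rw [map_zero]; exact zero_mem _
    | mul a b ha hb =>
      intro k
      rw [map_mul, coeff_mul, map_sum]
      refine sum_mem fun c hc => ?_
      rw [map_mul, ← Finset.mem_antidiagonal.1 hc]
      exact SetLike.mul_mem_graded (ha c.1) (hb c.2)
    | add a b ha hb =>
      intro k
      rw [map_add, coeff_add, map_add]
      exact add_mem (ha k) (hb k)
  have := key x i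
  rwa [(mem_wt _).1 hx, coeff_monomial, if_pos rfl] at this

end Groth.SymAlg
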