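import Groth.Agent.SymAlg.Glue
import Groth.Agent.QCohMod.QCAlgSub
import Groth.Agent.LocFree.AffineHom

/-!
# Sections of the symmetric algebra on affine opens, and the canonical map
-/

universe u

open CategoryTheory CategoryTheory.Limits AlgebraicGeometry Opposite TopologicalSpace

noncomputable section

namespace Groth.SymAlg

open Groth.QCohMod (res res_self res_res res_smul resFun BSec bres bstr toB ofB)

variable {S : Scheme.{u}} (E : S.Modules) [E.IsQuasicoherent]

/-- The sections over an affine open. -/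
def secEquiv (U : S.Opens) (hU : IsAffineOpen U) :
    BSec (symQC E) U ≃+* SymmetricAlgebra Γ(S, U) Γ(E, U) :=
  RingEquiv.ofBijective (secHom E U hU).hom (bijective_secHom E U hU)

theorem secEquiv_str {U : S.Opens} (hU : IsAffineOpen U) (r : Γ(S, U)) :
    secEquiv E U hU (bstr (symQC E) U r) = algebraMap Γ(S, U) _ r :=
  congr(($(str_secHom E U hU)).hom r)

theorem secEquiv_bres_basic {U D : S.Opens} (hU : IsAffineOpen U) (hD : IsAffineOpen D) (h : D ≤ U)
    (hr : ∃ r : Γ(S, U), S.basicOpen r = D) (x : BSec (symQC E) U) :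
    secEquiv E D hD (bres (symQC E) h x) = symRes E h (secEquiv E U hU x) :=
  congr(($(secHom_res E (U := (⟨U, hU⟩ : S.AffineZariskiSite)) (V := ⟨D, hD⟩) (homOfLE hr))).hom x)

theorem symRes_symRes {U V W : S.Opens} (h : V ≤ U) (h' : W ≤ V) (x : SymmetricAlgebra Γ(S, U) Γ(E, U)) :
    symRes E h' (symRes E h x) = symRes E (h'.trans h) x := by
  have : (symRes E h').comp (symRes E h) = symRes E (h'.trans h) := ringHom_ext
    (fun r => by
      rw [RingHom.comp_apply, symRes_algebraMap, symRes_algebraMap, symRes_algebraMap,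
        Groth.QCohMod.resFun_resFun])
    fun e => by rw [RingHom.comp_apply, symRes_ι, symRes_ι, symRes_ι, res_res]
  exact congr($this x)

theorem secEquiv_symm_symRes {U D : S.Opens} (hU : IsAffineOpen U) (hD : IsAffineOpen D) (h : D ≤ U)
    (hr : ∃ r : Γ(S, U), S.basicOpen r = D) (x : SymmetricAlgebra Γ(S, U) Γ(E, U)) :
    bres (symQC E) h ((secEquiv E U hU).symm x) = (secEquiv E D hD).symm (symRes E h x) := by
  apply (secEquiv E D hD).injective
  rw [secEquiv_bres_basic E hU hD h hr, RingEquiv.apply_symm_apply, RingEquiv.apply_symm_apply]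

theorem secEquiv_bres {U V : S.Opens} (hU : IsAffineOpen U) (hV : IsAffineOpen V) (h : V ≤ U)
    (x : BSec (symQC E) U) : secEquiv E V hV (bres (symQC E) h x) = symRes E h (secEquiv E U hU x) := by
  obtain ⟨x, rfl⟩ := (secEquiv E U hU).symm.surjective x
  rw [RingEquiv.apply_symm_apply]
  refine (secEquiv E V hV).eq_symm_apply.1 ?_
  refine Groth.CohTwo.eq_of_local (symQC E).toModule (ofB (symQC E) _) (ofB (symQC E) _) fun z hz => ?_
  obtain ⟨f, g, e, hzf⟩ := exists_basicOpen_le_affine_inter hU hV z ⟨h hz, hz⟩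
  have hleV : S.basicOpen f ≤ V := e ▸ S.basicOpen_le g
  refine ⟨S.basicOpen f, hleV, hzf, ?_⟩
  change bres (symQC E) hleV (bres (symQC E) h _) = bres (symQC E) hleV _
  rw [Groth.QCohMod.bres_bres, secEquiv_symm_symRes E hU (hU.basicOpen f) _ ⟨f, rfl⟩,
    secEquiv_symm_symRes E hV (hU.basicOpen f) _ ⟨g, e.symm⟩, symRes_symRes]

/-- The canonical map on an affine open. -/
def jLin (U : S.Opens) (hU : IsAffineOpen U) : Γ(E, U) →ₗ[Γ(S, U)] Γ((symQC E).toModule, U) where
  toFun e := ofB (symQC E) ((secEquiv E U hU).symm (SymmetricAlgebra.ι Γ(S, U) Γ(E, U) e))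
  map_add' a b := by
    rw [map_add, map_add]
    rfl
  map_smul' r e := by
    change (secEquiv E U hU).symm _ = bstr (symQC E) U r * (secEquiv E U hU).symm _
    apply (secEquiv E U hU).injective
    rw [map_mul, RingEquiv.apply_symm_apply, RingEquiv.apply_symm_apply, secEquiv_str, map_smul,
      Algebra.smul_def]

theorem exists_jSym : ∃ j : E ⟶ (symQC E).toModule, ∀ (U : S.Opens) (hU : IsAffineOpen U) (e : Γ(E, U)),
    toB (symQC E) (j.app U e) = (secEquiv E U hU).symm (SymmetricAlgebra.ι Γ(S, U) Γ(E, U) e) := by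
  obtain ⟨j, hj⟩ := Groth.LocFree.exists_hom_of_affine (jLin E) fun U V hU hV h x => by
    change bres (symQC E) h ((secEquiv E U hU).symm _) = (secEquiv E V hV).symm _
    apply (secEquiv E V hV).injective
    rw [secEquiv_bres E hU hV h, RingEquiv.apply_symm_apply, RingEquiv.apply_symm_apply, symRes_ι]
    rfl
  exact ⟨j, hj⟩

/-- The canonical map. -/
def jSym : E ⟶ (symQC E).toModule := (exists_jSym E).choose

theorem secEquiv_jSym {U : S.Opens} (hU : IsAffineOpen U) (e : Γ(E, U)) :
    secEquiv E U hU (toB (symQC E) ((jSym E).app U e)) = SymmetricAlgebra.ι Γ(S, U) Γ(E, U) e := by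
  rw [jSym, (exists_jSym E).choose_spec U hU e, RingEquiv.apply_symm_apply]

end Groth.SymAlg
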