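import Groth.Agent.SymAlg.GradCoeff
import Mathlib.LinearAlgebra.SymmetricAlgebra.Basic
import Mathlib.RingTheory.Localization.Away.Basic

/-!
# Symmetric algebras: functoriality, grading, localization
-/

universe u

open Polynomial

namespace Groth.SymAlg

variable {R : Type u} [CommRing R] {E : Type u} [AddCommGroup E] [Module R E]

local notation "Sym" => SymmetricAlgebra

theorem ringHom_ext {A : Type*} [CommRing A] {f g : SymmetricAlgebra R E →+* A}
    (h₀ : ∀ r, f (algebraMap R _ r) = g (algebraMap R _ r))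
    (h₁ : ∀ e, f (SymmetricAlgebra.ι R E e) = g (SymmetricAlgebra.ι R E e)) : f = g := by
  refine RingHom.ext fun a => ?_
  induction a using SymmetricAlgebra.induction with
  | algebraMap r => exact h₀ r
  | ι x => exact h₁ x
  | mul a b ha hb => rw [map_mul, map_mul, ha, hb]
  | add a b ha hb => rw [map_add, map_add, ha, hb]

section lift

variable {A : Type u} [CommRing A] (φ : R →+* A) (g : E →+ A)
  (hg : ∀ (r : R) (e : E), g (r • e) = φ r * g e)

/-- The ring homomorphism out of a symmetric algebra. -/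
noncomputable def liftHom : SymmetricAlgebra R E →+* A :=
  letI := φ.toAlgebra
  (SymmetricAlgebra.lift (A := A) { g with map_smul' := hg }).toRingHom

@[simp] theorem liftHom_algebraMap (r : R) : liftHom φ g hg (algebraMap R _ r) = φ r :=
  letI := φ.toAlgebra
  (SymmetricAlgebra.lift (A := A) { g with map_smul' := hg }).commutes r

@[simp] theorem liftHom_ι (e : E) : liftHom φ g hg (SymmetricAlgebra.ι R E e) = g e :=
  letI := φ.toAlgebra
  SymmetricAlgebra.lift_ι_apply (A := A) { g with map_smul' := hg } e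

end lift

variable (R E) in
/-- The coaction defining the grading. -/
noncomputable def symCo : SymmetricAlgebra R E →+* (SymmetricAlgebra R E)[X] :=
  liftHom ((C).comp (algebraMap R _))
    ((monomial 1).toAddMonoidHom.comp (SymmetricAlgebra.ι R E).toAddMonoidHom)
    fun r e => by
      simp [map_smul, Algebra.smul_def, C_mul_monomial]

theorem symCo_algebraMap (r : R) : symCo R E (algebraMap R _ r) = C (algebraMap R _ r) :=
  liftHom_algebraMap _ _ _ r

theorem symCo_ι (e : E) : symCo R E (SymmetricAlgebra.ι R E e) = monomial 1 (SymmetricAlgebra.ι R E e) :=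
  liftHom_ι _ _ _ e

theorem algebraMap_mem_wt (r : R) : algebraMap R _ r ∈ wt (symCo R E) 0 := by
  rw [mem_wt, symCo_algebraMap, monomial_zero_left]

theorem ι_mem_wt (e : E) : SymmetricAlgebra.ι R E e ∈ wt (symCo R E) 1 :=
  (mem_wt _).2 (symCo_ι e)

variable (R E) in
theorem isWt_symCo : IsWt (symCo R E) where
  eval a := by
    have : (evalRingHom 1).comp (symCo R E) = RingHom.id _ :=
      ringHom_ext (fun r => by simp [symCo_algebraMap]) fun e => by simp [symCo_ι]
    exact congr($this a)
  coeff a := by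
    suffices a ∈ wtRing (symCo R E) from this
    induction a using SymmetricAlgebra.induction with
    | algebraMap r => exact mem_wtRing_of_mem _ (algebraMap_mem_wt r)
    | ι x => exact mem_wtRing_of_mem _ (ι_mem_wt x)
    | mul a b ha hb => exact mul_mem ha hb
    | add a b ha hb => exact add_mem ha hb

variable {R' : Type u} [CommRing R'] {E' : Type u} [AddCommGroup E'] [Module R' E']
  (φ : R →+* R') (g : E →+ E') (hg : ∀ (r : R) (e : E), g (r • e) = φ r • g e)

/-- Functoriality of symmetric algebras. -/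
noncomputable def symMap : SymmetricAlgebra R E →+* SymmetricAlgebra R' E' :=
  liftHom ((algebraMap R' _).comp φ) ((SymmetricAlgebra.ι R' E').toAddMonoidHom.comp g)
    fun r e => by simp [hg, Algebra.smul_def]

@[simp] theorem symMap_algebraMap (r : R) :
    symMap φ g hg (algebraMap R _ r) = algebraMap R' _ (φ r) :=
  liftHom_algebraMap _ _ _ r

@[simp] theorem symMap_ι (e : E) :
    symMap φ g hg (SymmetricAlgebra.ι R E e) = SymmetricAlgebra.ι R' E' (g e) :=
  liftHom_ι _ _ _ e

theorem symCo_symMap (a : SymmetricAlgebra R E) :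
    symCo R' E' (symMap φ g hg a) = (symCo R E a).map (symMap φ g hg) := by
  have : (symCo R' E').comp (symMap φ g hg) = (mapRingHom (symMap φ g hg)).comp (symCo R E) :=
    ringHom_ext (fun r => by simp [symCo_algebraMap]) fun e => by simp [symCo_ι]
  exact congr($this a)

theorem symMap_mem_wt {i : ℕ} {a : SymmetricAlgebra R E} (h : a ∈ wt (symCo R E) i) :
    symMap φ g hg a ∈ wt (symCo R' E') i := by
  rw [mem_wt, symCo_symMap, (mem_wt _).1 h, map_monomial]

section loc

variable (r : R)
  (hR : @IsLocalization.Away R _ r R' _ φ.toAlgebra)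
  (hsurj : ∀ e' : E', ∃ (n : ℕ) (e : E), g e = φ r ^ n • e')
  (hker : ∀ e : E, g e = 0 → ∃ n : ℕ, r ^ n • e = 0)

include hR hsurj hker in
theorem isLocalization_symMap :
    @IsLocalization.Away (SymmetricAlgebra R E) _ (algebraMap R _ r) (SymmetricAlgebra R' E') _
      (symMap φ g hg).toAlgebra := by
  letI := φ.toAlgebra
  haveI : IsLocalization.Away r R' := hR
  let c : SymmetricAlgebra R E := algebraMap R _ r
  let L := Localization.Away c
  let ψ : SymmetricAlgebra R E →+* L := algebraMap _ _
  have huc : IsUnit (ψ c) := IsLocalization.Away.algebraMap_isUnit c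
  have hur : IsUnit ((ψ.comp (algebraMap R _)) r) := huc
  let κ : R' →+* L := IsLocalization.Away.lift (S := R') r (g := ψ.comp (algebraMap R _)) hur
  have hκ : ∀ a, κ (φ a) = ψ (algebraMap R _ a) := fun a =>
    IsLocalization.Away.lift_eq (S := R') r hur a
  have hpow : ∀ (n : ℕ) (e : E), ψ (SymmetricAlgebra.ι R E (r ^ n • e)) =
      ψ c ^ n * ψ (SymmetricAlgebra.ι R E e) := fun n e => by
    rw [map_smul, Algebra.smul_def, map_mul, map_pow, map_pow]
  have hwd : ∀ {m n : ℕ} {a b : E} {e' : E'}, g a = φ r ^ m • e' → g b = φ r ^ n • e' →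
      ψ c ^ n * ψ (SymmetricAlgebra.ι R E a) = ψ c ^ m * ψ (SymmetricAlgebra.ι R E b) := by
    intro m n a b e' ha hb
    obtain ⟨k, hk⟩ := hker (r ^ n • a - r ^ m • b) (by
      rw [map_sub, hg, hg, ha, hb, map_pow, map_pow, smul_comm, sub_self])
    have h1 := congrArg (fun e => ψ (SymmetricAlgebra.ι R E e)) hk
    simp only [hpow, map_sub, map_zero] at h1
    exact sub_eq_zero.1 ((huc.pow k).mul_right_eq_zero.1 h1)
  choose n t ht using hsurj
  let h : E' → L := fun e' => ψ (SymmetricAlgebra.ι R E (t e')) * ↑((huc.pow (n e')).unit⁻¹)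
  have hspec : ∀ {e' : E'} {m : ℕ} {e : E}, g e = φ r ^ m • e' →
      ψ c ^ m * h e' = ψ (SymmetricAlgebra.ι R E e) := by
    intro e' m e he
    rw [← mul_assoc, hwd (ht e') he, mul_comm (ψ c ^ n e'), mul_assoc, IsUnit.mul_val_inv, mul_one]
  have hadd : ∀ x y, h (x + y) = h x + h y := by
    intro x y
    have e : g (r ^ n y • t x + r ^ n x • t y) = φ r ^ (n x + n y) • (x + y) := by
      rw [map_add, hg, hg, ht, ht, map_pow, map_pow, smul_smul, smul_smul, ← pow_add, ← pow_add,
        add_comm (n y), smul_add]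
    refine (huc.pow (n x + n y)).mul_left_cancel ?_
    rw [hspec e, map_add, map_add, hpow, hpow, ← hspec (ht x), ← hspec (ht y), pow_add]
    ring
  have hsmul : ∀ (a : R') (x : E'), h (a • x) = κ a * h x := by
    intro a x
    obtain ⟨m, a₀, ha⟩ := IsLocalization.Away.surj r a
    have ha' : a * φ r ^ m = φ a₀ := ha
    have e : g (a₀ • t x) = φ r ^ (m + n x) • (a • x) := by
      rw [hg, ht, ← ha', smul_smul, smul_smul, pow_add]
      congr 1
      ring
    refine (huc.pow (m + n x)).mul_left_cancel ?_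
    rw [hspec e, map_smul, Algebra.smul_def, map_mul, ← hκ, ← ha', map_mul, map_pow, hκ,
      ← hspec (ht x), pow_add]
    ring
  let Ψ : SymmetricAlgebra R' E' →+* L := liftHom κ (AddMonoidHom.mk' h hadd) hsmul
  have hΨa : ∀ a, Ψ (algebraMap R' _ a) = κ a := fun a => liftHom_algebraMap _ _ _ a
  have hΨι : ∀ x, Ψ (SymmetricAlgebra.ι R' E' x) = h x := fun x => liftHom_ι _ _ _ x
  let Φ : L →+* SymmetricAlgebra R' E' := IsLocalization.Away.lift c (g := symMap φ g hg) (by
    rw [symMap_algebraMap]
    exact (IsLocalization.Away.algebraMap_isUnit (S := R') r).map _)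
  have hΦ : ∀ a, Φ (ψ a) = symMap φ g hg a := fun a => IsLocalization.Away.lift_eq _ _ a
  have hΨ : ∀ a, Ψ (symMap φ g hg a) = ψ a := by
    intro a
    have : Ψ.comp (symMap φ g hg) = ψ := ringHom_ext
      (fun x => by rw [RingHom.comp_apply, symMap_algebraMap, hΨa, hκ]) fun e => by
        rw [RingHom.comp_apply, symMap_ι, hΨι, ← one_mul (h (g e)), ← pow_zero (ψ c)]
        exact hspec (m := 0) (e' := g e) (e := e) (by rw [pow_zero, one_smul])
    exact congr($this a)
  have h1 : Φ.comp Ψ = RingHom.id _ := by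
    refine ringHom_ext (fun a => ?_) fun e' => ?_
    · obtain ⟨m, a₀, ha⟩ := IsLocalization.Away.surj r a
      have ha' : a * φ r ^ m = φ a₀ := ha
      have hu : IsUnit (algebraMap R' (SymmetricAlgebra R' E') (φ r ^ m)) :=
        ((IsLocalization.Away.algebraMap_isUnit (S := R') r).pow m).map _
      refine hu.mul_right_cancel ?_
      have e1 : algebraMap R' (SymmetricAlgebra R' E') (φ r ^ m) = Φ (ψ c ^ m) := by
        rw [map_pow, map_pow, hΦ, symMap_algebraMap]
      rw [RingHom.comp_apply, RingHom.id_apply, hΨa, ← map_mul, ha', e1, ← map_mul]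
      have e2 : κ a * ψ c ^ m = ψ (algebraMap R _ a₀) := by
        rw [← hκ a₀, ← ha', map_mul, map_pow, hκ]
      rw [e2, hΦ, symMap_algebraMap]
    · have hu : IsUnit (algebraMap R' (SymmetricAlgebra R' E') (φ r ^ n e')) :=
        ((IsLocalization.Away.algebraMap_isUnit (S := R') r).pow _).map _
      refine hu.mul_left_cancel ?_
      have e1 : algebraMap R' (SymmetricAlgebra R' E') (φ r ^ n e') = Φ (ψ c ^ n e') := by
        rw [map_pow, map_pow, hΦ, symMap_algebraMap]
      rw [RingHom.comp_apply, RingHom.id_apply, hΨι]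
      conv_rhs => rw [← Algebra.smul_def, ← map_smul, ← ht, ← symMap_ι φ g hg, ← hΦ, ← hspec (ht e')]
      rw [e1, ← map_mul]
  have h2 : Ψ.comp Φ = RingHom.id _ := by
    refine IsLocalization.ringHom_ext (Submonoid.powers c) (RingHom.ext fun a => ?_)
    simp only [RingHom.comp_apply, RingHom.id_apply]
    exact (congrArg Ψ (hΦ a)).trans (hΨ a)
  letI := (symMap φ g hg).toAlgebra
  let e : L ≃ₐ[SymmetricAlgebra R E] SymmetricAlgebra R' E' :=
    AlgEquiv.ofRingEquiv (f := RingEquiv.ofRingHom Φ Ψ h1 h2) hΦ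
  exact IsLocalization.isLocalization_of_algEquiv (Submonoid.powers c) e

end loc

end Groth.SymAlg
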