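import Mathlib.Algebra.Polynomial.Eval.Coeff
import Mathlib.Algebra.DirectSum.Internal
import Mathlib.Algebra.DirectSum.Decomposition
import Mathlib.RingTheory.GradedAlgebra.Basic

/-!
# The grading cut out by a homogeneous polynomial coaction `δ : A →+* A[X]`
-/

universe u

open Polynomial DirectSum

namespace Groth.SymAlg

variable {A : Type u} [CommRing A] (δ : A →+* A[X])

/-- The elements of weight `i`. -/
noncomputable def wt (i : ℕ) : AddSubgroup A :=
  (δ.toAddMonoidHom - (monomial i).toAddMonoidHom).ker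

theorem mem_wt {i : ℕ} {a : A} : a ∈ wt δ i ↔ δ a = monomial i a :=
  AddMonoidHom.mem_ker.trans sub_eq_zero

theorem coeff_mem_of_mem {i : ℕ} {a : A} (h : a ∈ wt δ i) (k : ℕ) : (δ a).coeff k ∈ wt δ k := by
  rw [(mem_wt δ).1 h, coeff_monomial]
  split_ifs with e
  · exact e ▸ h
  · exact zero_mem _

theorem one_mem_wt : (1 : A) ∈ wt δ 0 := by
  rw [mem_wt, map_one, monomial_zero_one]

theorem mul_mem_wt {i j : ℕ} {a b : A} (ha : a ∈ wt δ i) (hb : b ∈ wt δ j) : a * b ∈ wt δ (i + j) := by
  rw [mem_wt, map_mul, (mem_wt δ).1 ha, (mem_wt δ).1 hb, monomial_mul_monomial]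

/-- `δ` is homogeneous: coefficients have their weights, and evaluation at `1` is the identity. -/
structure IsWt : Prop where
  eval : ∀ a, (δ a).eval 1 = a
  coeff : ∀ a i, (δ a).coeff i ∈ wt δ i

/-- The elements all whose coefficients have their weights. -/
noncomputable def wtRing : Subring A where
  carrier := {a | ∀ i, (δ a).coeff i ∈ wt δ i}
  one_mem' i := coeff_mem_of_mem δ (one_mem_wt δ) i
  zero_mem' i := by rw [map_zero, coeff_zero]; exact zero_mem _
  add_mem' {a b} ha hb i := by rw [map_add, coeff_add]; exact add_mem (ha i) (hb i)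
  neg_mem' {a} ha i := by rw [map_neg, coeff_neg]; exact neg_mem (ha i)
  mul_mem' {a b} ha hb i := by
    rw [map_mul, coeff_mul]
    exact sum_mem fun x hx => (Finset.mem_antidiagonal.1 hx) ▸ mul_mem_wt δ (ha x.1) (hb x.2)

theorem mem_wtRing_of_mem {i : ℕ} {a : A} (h : a ∈ wt δ i) : a ∈ wtRing δ :=
  coeff_mem_of_mem δ h

theorem IsWt.internal (h : IsWt δ) : DirectSum.IsInternal (wt δ) := by
  classical
  have key : ∀ (x : ⨁ i, wt δ i) (k : ℕ), (δ (DirectSum.coeAddMonoidHom (wt δ) x)).coeff k = (x k : A) := by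
    intro x k
    induction x using DirectSum.induction_on with
    | zero => simp
    | of i a =>
      rw [DirectSum.coeAddMonoidHom_of, (mem_wt δ).1 a.2, coeff_monomial, DirectSum.coe_of_apply]
      split_ifs <;> rfl
    | add x y hx hy => rw [map_add, map_add, coeff_add, hx, hy, DirectSum.add_apply, AddMemClass.coe_add]
  refine ⟨fun x y e => DFinsupp.ext fun k => Subtype.ext ?_, fun a => ?_⟩
  · rw [← key x k, ← key y k, e]
  · refine ⟨∑ i ∈ (δ a).support, DirectSum.of (fun i => wt δ i) i ⟨_, h.coeff a i⟩, ?_⟩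
    rw [map_sum]
    conv_rhs => rw [← h.eval a, eval_eq_sum, Polynomial.sum]
    exact Finset.sum_congr rfl fun i _ => by simp

instance gradedMonoid_wt : SetLike.GradedMonoid (wt δ) where
  one_mem := one_mem_wt δ
  mul_mem _ _ _ _ := mul_mem_wt δ

/-- The graded ring of a homogeneous coaction. -/
noncomputable def IsWt.gradedRing (h : IsWt δ) : GradedRing (wt δ) where
  __ := (h.internal δ).chooseDecomposition
  __ := gradedMonoid_wt δ

section comap

variable {B : Type u} [CommRing B] (e : B ≃+* A)

/-- Transport of a coaction along a ring isomorphism. -/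
noncomputable def coComap : B →+* B[X] :=
  ((mapRingHom (e.symm : A →+* B)).comp δ).comp (e : B →+* A)

theorem coComap_apply (x : B) : coComap δ e x = Polynomial.map (e.symm : A →+* B) (δ (e x)) := rfl

theorem mem_wt_coComap {i : ℕ} {x : B} : x ∈ wt (coComap δ e) i ↔ e x ∈ wt δ i := by
  rw [mem_wt, mem_wt, coComap_apply]
  constructor
  · intro h
    refine Polynomial.map_injective (e.symm : A →+* B) e.symm.injective (h.trans ?_)
    rw [map_monomial, RingHom.coe_coe, RingEquiv.symm_apply_apply]
  · intro h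
    rw [h, map_monomial, RingHom.coe_coe, RingEquiv.symm_apply_apply]

theorem IsWt.coComap (h : IsWt δ) : IsWt (SymAlg.coComap δ e) where
  eval a := by
    rw [coComap_apply, eval_one_map, h.eval, RingHom.coe_coe, RingEquiv.symm_apply_apply]
  coeff a i := by
    rw [mem_wt_coComap, coComap_apply, coeff_map, RingHom.coe_coe, RingEquiv.apply_symm_apply]
    exact h.coeff _ i

end comap

end Groth.SymAlg
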