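import Groth.Agent.SymAlg.Univ

/-!
# Homomorphisms of quasi-coherent algebras given on affine opens
-/

universe u

open CategoryTheory CategoryTheory.Limits AlgebraicGeometry Opposite TopologicalSpace

noncomputable section

namespace Groth.SymAlg

open Groth.QCohMod (BSec bres bstr)

variable {S : Scheme.{u}} {A B : RelSpec.QCAlg S}

theorem exists_qcHom (f : ∀ U : S.Opens, IsAffineOpen U → (BSec A U →+* BSec B U))
    (hf : ∀ U D (hU : IsAffineOpen U) (hD : IsAffineOpen D) (h : D ≤ U),
      (∃ r : Γ(S, U), S.basicOpen r = D) → ∀ x, f D hD (bres A h x) = bres B h (f U hU x))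
    (hs : ∀ U (hU : IsAffineOpen U) r, f U hU (bstr A U r) = bstr B U r) :
    ∃ ψ : A ⟶ B, ∀ U (hU : IsAffineOpen U) x, (ψ.hom.app (op U)).hom x = f U hU x := by
  let θ : (Scheme.AffineZariskiSite.toOpensFunctor S).op ⋙ A.presheaf ⟶
      (Scheme.AffineZariskiSite.toOpensFunctor S).op ⋙ B.presheaf :=
    { app := fun U => CommRingCat.ofHom (f U.unop.1 U.unop.2)
      naturality := fun U V i => CommRingCat.hom_ext (RingHom.ext fun x =>
        hf U.unop.1 V.unop.1 U.unop.2 V.unop.2 (Scheme.AffineZariskiSite.toOpens_mono i.unop.le) i.unop.le x) }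
  let g : A.presheaf ⟶ B.presheaf :=
    Functor.IsCoverDense.restrictHomEquivHom (G := Scheme.AffineZariskiSite.toOpensFunctor S)
      (K := Opens.grothendieckTopology S) (ℱ := A.presheaf)
      (ℱ' := (⟨B.presheaf, B.isSheaf⟩ : TopCat.Sheaf CommRingCat.{u} S.carrier)) θ
  have hg : (Scheme.AffineZariskiSite.toOpensFunctor S).op.whiskerLeft g = θ :=
    (Functor.IsCoverDense.restrictHomEquivHom (G := Scheme.AffineZariskiSite.toOpensFunctor S)
      (K := Opens.grothendieckTopology S) (ℱ := A.presheaf)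
      (ℱ' := (⟨B.presheaf, B.isSheaf⟩ : TopCat.Sheaf CommRingCat.{u} S.carrier))).symm_apply_apply _
  have happ : ∀ U (hU : IsAffineOpen U) x, (g.app (op U)).hom x = f U hU x := fun U hU x =>
    congr(($(NatTrans.congr_app hg (op ⟨U, hU⟩))).hom x)
  refine ⟨⟨g, ?_⟩, happ⟩
  refine (Functor.IsCoverDense.restrictHomEquivHom (G := Scheme.AffineZariskiSite.toOpensFunctor S)
    (K := Opens.grothendieckTopology S) (ℱ := S.presheaf)
    (ℱ' := (⟨B.presheaf, B.isSheaf⟩ : TopCat.Sheaf CommRingCat.{u} S.carrier))).symm.injective ?_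
  ext U : 2
  refine CommRingCat.hom_ext (RingHom.ext fun r => ?_)
  exact (happ U.unop.1 U.unop.2 _).trans (hs U.unop.1 U.unop.2 r)

end Groth.SymAlg
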