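import Groth.Agent.SymAlg.SymLoc
import Groth.Agent.QCohMod.Sections
import Groth.Prelude.Def_RelSpec

/-!
# The symmetric algebra of a quasi-coherent module: construction
-/

universe u

open CategoryTheory CategoryTheory.Limits AlgebraicGeometry Opposite TopologicalSpace

noncomputable section

namespace Groth.SymAlg

open Groth.QCohMod (res res_self res_res res_smul resFun exists_pow_smul_eq_res exists_pow_smul_eq_zero)

variable {S : Scheme.{u}} (E : S.Modules)

/-- Restriction of a symmetric algebra. -/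
def symRes {U V : S.Opens} (h : V ≤ U) :
    SymmetricAlgebra Γ(S, U) Γ(E, U) →+* SymmetricAlgebra Γ(S, V) Γ(E, V) :=
  symMap (resFun S h) (AddMonoidHom.mk' (res E h) fun _ _ => map_add _ _ _) (res_smul E h)

theorem symRes_ι {U V : S.Opens} (h : V ≤ U) (e : Γ(E, U)) :
    symRes E h (SymmetricAlgebra.ι Γ(S, U) Γ(E, U) e) = SymmetricAlgebra.ι Γ(S, V) Γ(E, V) (res E h e) :=
  symMap_ι _ _ _ e

theorem symRes_algebraMap {U V : S.Opens} (h : V ≤ U) (r : Γ(S, U)) :
    symRes E h (algebraMap Γ(S, U) _ r) = algebraMap Γ(S, V) _ (resFun S h r) :=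
  symMap_algebraMap _ _ _ r

/-- The symmetric algebras of the affine opens. -/
def symF : S.AffineZariskiSiteᵒᵖ ⥤ CommRingCat.{u} where
  obj U := CommRingCat.of (SymmetricAlgebra Γ(S, U.unop.1) Γ(E, U.unop.1))
  map {U V} i := CommRingCat.ofHom (symRes E (Scheme.AffineZariskiSite.toOpens_mono i.unop.le))
  map_id U := CommRingCat.hom_ext (ringHom_ext
    (fun r => (symRes_algebraMap E _ r).trans (congrArg _ (Groth.QCohMod.resFun_self r)))
    fun e => (symRes_ι E _ e).trans (congrArg _ (res_self E (U := U.unop.1) e)))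
  map_comp {U V W} i j := CommRingCat.hom_ext (ringHom_ext
    (fun r => by
      refine (symRes_algebraMap E _ r).trans ?_
      change _ = symRes E _ (symRes E _ _)
      rw [symRes_algebraMap, symRes_algebraMap]
      exact congrArg _ (Groth.QCohMod.resFun_resFun _ _ r).symm)
    fun e => by
      refine (symRes_ι E _ e).trans ?_
      change _ = symRes E _ (symRes E _ _)
      rw [symRes_ι, symRes_ι]
      exact congrArg _ (res_res E _ _ e).symm)

/-- The structure maps. -/
def symα : (Scheme.AffineZariskiSite.toOpensFunctor S).op ⋙ S.presheaf ⟶ symF E where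
  app U := CommRingCat.ofHom (algebraMap Γ(S, U.unop.1) (SymmetricAlgebra Γ(S, U.unop.1) Γ(E, U.unop.1)))
  naturality U V i := CommRingCat.hom_ext (RingHom.ext fun r => (symRes_algebraMap E _ r).symm)

variable [E.IsQuasicoherent]

theorem symα_coequifibered : (symα E).Coequifibered := by
  refine Scheme.AffineZariskiSite.coequifibered_iff_forall_isLocalizationAway.mpr fun U r => ?_
  exact isLocalization_symMap (resFun S (S.basicOpen_le r))
    (AddMonoidHom.mk' (res E (S.basicOpen_le r)) fun _ _ => map_add _ _ _) (res_smul E (S.basicOpen_le r)) r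
    (U.2.isLocalization_basicOpen r)
    (fun e' => (exists_pow_smul_eq_res E U.2 r e').imp fun n h => h)
    (fun e he => exists_pow_smul_eq_zero E U.2 r e he)

/-- The gluing datum. -/
def symGlue : (Scheme.AffineZariskiSite.directedCover S).RelativeGluingData :=
  Scheme.AffineZariskiSite.relativeGluingData (symα_coequifibered E)

instance : ((symGlue E).functor ⋙ Scheme.forget).IsLocallyDirected :=
  Scheme.Cover.RelativeGluingData.instIsLocallyDirectedI₀CompFunctorForgetOfIsThin ..

/-- The vector bundle of `E`. -/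
def vb : Scheme.{u} := (symGlue E).glued

/-- The structure map over an affine open. -/
def symStr (U : S.Opens) : Γ(S, U) ⟶ CommRingCat.of (SymmetricAlgebra Γ(S, U) Γ(E, U)) :=
  CommRingCat.ofHom (algebraMap Γ(S, U) (SymmetricAlgebra Γ(S, U) Γ(E, U)))

/-- Its projection. -/
def vbπ : vb E ⟶ S := (symGlue E).toBase

/-- Its charts. -/
def vbι (U : S.Opens) (hU : IsAffineOpen U) :
    Spec (CommRingCat.of (SymmetricAlgebra Γ(S, U) Γ(E, U))) ⟶ vb E :=
  (symGlue E).cover.f ⟨U, hU⟩

variable (U : S.Opens) (hU : IsAffineOpen U)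

instance : IsOpenImmersion (vbι E U hU) := (symGlue E).cover.map_prop _

theorem vbι_π : vbι E U hU ≫ vbπ E = Spec.map (symStr E U) ≫ hU.fromSpec :=
  colimit.ι_desc _ _

theorem vbπ_preimage : vbπ E ⁻¹ᵁ U = (vbι E U hU).opensRange := by
  simpa using! (symGlue E).toBase_preimage_eq_opensRange_ι ⟨U, hU⟩

instance : IsAffineHom (vbπ E) where
  isAffine_preimage U hU := by
    rw [vbπ_preimage E U hU]
    exact isAffineOpen_opensRange (vbι E U hU)

/-- The symmetric algebra as a quasi-coherent algebra. -/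
def symQC : RelSpec.QCAlg S := RelSpec.QCAlg.directImage (vbπ E)

theorem top_le_preimage : (⊤ : (Spec (CommRingCat.of (SymmetricAlgebra Γ(S, U) Γ(E, U)))).Opens) ≤
    vbι E U hU ⁻¹ᵁ (vbπ E ⁻¹ᵁ U) := by
  rw [← Scheme.Hom.comp_preimage, vbι_π, Scheme.Hom.comp_preimage, hU.fromSpec_preimage_self]
  exact le_top

/-- The sections of the symmetric algebra over an affine open. -/
def secHom : (symQC E).presheaf.obj (op U) ⟶ CommRingCat.of (SymmetricAlgebra Γ(S, U) Γ(E, U)) :=
  (vbι E U hU).appLE (vbπ E ⁻¹ᵁ U) ⊤ (top_le_preimage E U hU) ≫ (Scheme.ΓSpecIso _).hom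

theorem isIso_secHom : IsIso (secHom E U hU) := by
  have h1 : IsIso ((vbι E U hU).app (vbπ E ⁻¹ᵁ U)) :=
    Scheme.Hom.isIso_app _ _ (vbπ_preimage E U hU).le
  have h2 : IsIso ((vbι E U hU).appLE (vbπ E ⁻¹ᵁ U) ⊤ (top_le_preimage E U hU)) := by
    have h3 : vbι E U hU ⁻¹ᵁ (vbπ E ⁻¹ᵁ U) = ⊤ := top_le_iff.1 (top_le_preimage E U hU)
    rw [Scheme.Hom.appLE, show (homOfLE (top_le_preimage E U hU)) = eqToHom h3.symm from
      Subsingleton.elim _ _]
    infer_instance
  exact IsIso.comp_isIso' h2 inferInstance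

theorem bijective_secHom : Function.Bijective (secHom E U hU).hom :=
  have := isIso_secHom E U hU
  ConcreteCategory.bijective_of_isIso _

set_option backward.isDefEq.respectTransparency false in
theorem str_secHom : (symQC E).str.app (op U) ≫ secHom E U hU = symStr E U := by
  change (vbπ E).app U ≫ _ = _
  have h1 := Scheme.Hom.congr_app (vbι_π E U hU) U
  have h2 := (Scheme.Hom.comp_app (vbι E U hU) (vbπ E) U).symm
  have hk : ∀ k : (op ⊤ : (Spec (CommRingCat.of (SymmetricAlgebra Γ(S, U) Γ(E, U)))).Opensᵒᵖ) ⟶ op ⊤,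
      (Spec (CommRingCat.of (SymmetricAlgebra Γ(S, U) Γ(E, U)))).presheaf.map k = 𝟙 _ := fun k => by
    rw [Subsingleton.elim k (𝟙 _)]; exact CategoryTheory.Functor.map_id _ _
  simp only [secHom, Scheme.Hom.appLE, Category.assoc]
  rw [reassoc_of% h2, h1, Scheme.Hom.comp_app, hU.fromSpec_app_self]
  simp only [Category.assoc]
  rw [Scheme.Hom.naturality_assoc]
  simp only [← Functor.map_comp_assoc]
  erw [hk, Category.id_comp]
  rw [← cancel_epi (Scheme.ΓSpecIso Γ(S, U)).hom, Iso.hom_inv_id_assoc]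
  erw [Scheme.ΓSpecIso_naturality]

theorem vbι_res {U V : S.AffineZariskiSite} (i : V ⟶ U) :
    Spec.map ((symF E).map i.op) ≫ vbι E U.1 U.2 = vbι E V.1 V.2 :=
  colimit.w (symGlue E).functor i

set_option backward.isDefEq.respectTransparency false in
theorem secHom_res {U V : S.AffineZariskiSite} (i : V ⟶ U) :
    (symQC E).presheaf.map (homOfLE (Scheme.AffineZariskiSite.toOpens_mono i.le)).op ≫ secHom E V.1 V.2 =
      secHom E U.1 U.2 ≫ (symF E).map i.op := by
  change (vb E).presheaf.map (homOfLE ((vbπ E).preimage_mono (Scheme.AffineZariskiSite.toOpens_mono i.le))).op ≫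
      secHom E V.1 V.2 = _
  simp only [secHom, Category.assoc, ← Scheme.ΓSpecIso_naturality]
  simp only [← Category.assoc]
  congr 1
  simp only [Scheme.Hom.appTop, Scheme.Hom.appLE, Category.assoc]
  have h1 := (Scheme.Hom.comp_app (Spec.map ((symF E).map i.op)) (vbι E U.1 U.2) (vbπ E ⁻¹ᵁ U.1)).symm
  rw [Scheme.Hom.naturality_assoc, Scheme.Hom.naturality, reassoc_of% h1,
    Scheme.Hom.congr_app (vbι_res E i), Category.assoc, ← Functor.map_comp, ← Functor.map_comp]
  rfl

end Groth.SymAlg
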